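import Groth.Agent.Lib.DPRigid.Filtration
import Mathlib.RingTheory.HopkinsLevitzki

/-! Chevalley's lemma for the divided power filtration. -/

set_option autoImplicit false

universe u

namespace Groth.Agent.Lib.DPRigid

open W4c1noabschz1

variable {S : Type u} [CommRing S] [IsNoetherianRing S] {I : Ideal S} (hI : DividedPowers I)

theorem dpSmall_of_isTopNilpotent (htn : IsDPTopNilpotent hI) (𝔇 : Ideal S) [IsAdicComplete 𝔇 S]
    (hmax : ∀ Q : Ideal S, Q.IsPrime → 𝔇 ≤ Q → Q.IsMaximal) (N : ℕ) :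
    ∃ n : ℕ, dpPow hI n ≤ 𝔇 ^ N := by
  have hjac : 𝔇 ≤ Ideal.jacobson ⊥ := IsAdicComplete.le_jacobson_bot 𝔇
  have hstab : ∀ K : ℕ, ∃ n, ∀ k, n ≤ k → dpPow hI n ≤ dpPow hI k ⊔ 𝔇 ^ K := by
    intro K
    haveI : IsNoetherianRing (S ⧸ 𝔇 ^ K) :=
      isNoetherianRing_of_surjective S _ (Ideal.Quotient.mk _) Ideal.Quotient.mk_surjective
    haveI : IsArtinianRing (S ⧸ 𝔇 ^ K) := by
      rw [isArtinianRing_iff_krullDimLE_zero, Ring.krullDimLE_zero_iff]
      intro Q hQ
      haveI := hQ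
      have hQ' : (Q.comap (Ideal.Quotient.mk (𝔇 ^ K))).IsMaximal := by
        refine hmax _ inferInstance ?_
        have h1 : 𝔇 ^ K ≤ Q.comap (Ideal.Quotient.mk (𝔇 ^ K)) := fun x hx => by
          rw [Ideal.mem_comap, Ideal.Quotient.eq_zero_iff_mem.2 hx]
          exact zero_mem _
        exact Ideal.IsPrime.le_of_pow_le h1
      rw [← Ideal.map_comap_of_surjective _ Ideal.Quotient.mk_surjective Q]
      exact (Ideal.map_eq_top_or_isMaximal_of_surjective _ Ideal.Quotient.mk_surjective hQ').resolve_left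
        (by rw [Ideal.map_comap_of_surjective _ Ideal.Quotient.mk_surjective Q]; exact hQ.ne_top)
    obtain ⟨n, hn⟩ := IsArtinian.monotone_stabilizes (R := S ⧸ 𝔇 ^ K) (M := S ⧸ 𝔇 ^ K)
      ⟨fun k => OrderDual.toDual ((dpPow hI k).map (Ideal.Quotient.mk (𝔇 ^ K))),
        fun a b hab => OrderDual.toDual_le_toDual.2 (Ideal.map_mono (dpPow_anti hI hab))⟩
    refine ⟨n, fun k hk x hx => ?_⟩
    have h1 : Ideal.Quotient.mk (𝔇 ^ K) x ∈ (dpPow hI k).map (Ideal.Quotient.mk (𝔇 ^ K)) := by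
      have h2 := congrArg OrderDual.ofDual (hn k hk)
      simp only [OrderHom.coe_mk, OrderDual.ofDual_toDual] at h2
      rw [← h2]
      exact Ideal.mem_map_of_mem _ hx
    obtain ⟨y, hy, hyx⟩ := (Ideal.mem_map_iff_of_surjective _ Ideal.Quotient.mk_surjective).1 h1
    rw [Ideal.Quotient.eq] at hyx
    rw [← sub_sub_cancel y x]
    exact sub_mem (Submodule.mem_sup_left hy) (Submodule.mem_sup_right hyx)
  choose ν hν using hstab
  let μ : ℕ → ℕ := fun K => ν K + ∑ i ∈ Finset.range K, ν i + K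
  have hνμ : ∀ {i K : ℕ}, i ≤ K → ν i ≤ μ K := by
    intro i K h
    rcases h.lt_or_eq with h | rfl
    · have := Finset.single_le_sum (f := ν) (fun i _ => Nat.zero_le _) (Finset.mem_range.2 h)
      change ν i ≤ ν K + _ + K
      omega
    · change ν i ≤ ν i + _ + i
      omega
  refine ⟨μ N, fun x hx => ?_⟩
  have hnext : ∀ k, ∀ y : dpPow hI (μ k), ∃ y' : dpPow hI (μ (k + 1)), (y' : S) - y ∈ 𝔇 ^ k := by
    rintro k ⟨y, hy⟩
    obtain ⟨p, hp, q, hq, hpq⟩ := Submodule.mem_sup.1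
      (hν k (max (ν k) (μ (k + 1))) (le_max_left _ _) (dpPow_anti hI (hνμ le_rfl) hy))
    refine ⟨⟨p, dpPow_anti hI (le_max_right _ _) hp⟩, ?_⟩
    rw [show p - y = -q by rw [← hpq]; ring]
    exact neg_mem hq
  choose next hn using hnext
  let seq : ∀ k, dpPow hI (μ (N + k)) :=
    fun k => Nat.rec ⟨x, hx⟩ (fun k y => next (N + k) y) k
  have hs : ∀ a b, a ≤ b → (seq b).1 - (seq a).1 ∈ 𝔇 ^ (N + a) := by
    intro a b hab
    induction b, hab using Nat.le_induction with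
    | base => simp
    | succ b hab ih =>
      have h1 : (seq (b + 1)).1 - (seq b).1 ∈ 𝔇 ^ (N + a) :=
        Ideal.pow_le_pow_right (by omega) (hn (N + b) (seq b))
      convert add_mem h1 ih using 1
      ring
  obtain ⟨L, hL⟩ := IsPrecomplete.prec (I := 𝔇) (M := S) inferInstance
    (f := fun k => (seq k).1) (fun {a b} hab => by
      rw [SModEq.sub_mem, smul_eq_mul, Ideal.mul_top, ← neg_sub, neg_mem_iff]
      exact Ideal.pow_le_pow_right (by omega) (hs a b hab))
  have hL' : ∀ k, (seq k).1 - L ∈ 𝔇 ^ k := fun k => by simpa [SModEq.sub_mem] using hL k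
  have hL0 : L = 0 := by
    rw [← Ideal.mem_bot, ← htn, Submodule.mem_iInf]
    intro n
    refine mem_of_forall_mem_sup_pow hjac fun k => ?_
    rw [← sub_sub_cancel (seq (n + k)).1 L]
    refine Submodule.sub_mem_sup (dpPow_anti hI ?_ (seq (n + k)).2)
      (Ideal.pow_le_pow_right (by omega) (hL' (n + k)))
    change n ≤ ν _ + _ + (N + (n + k))
    omega
  have h1 := hL' N
  rw [hL0, sub_zero] at h1
  have h2 : (seq N).1 - x ∈ 𝔇 ^ N := Ideal.pow_le_pow_right (by omega) (hs 0 N (Nat.zero_le _))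
  simpa using sub_mem h1 h2

end Groth.Agent.Lib.DPRigid
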