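import Groth.Agent.Lib.DPRigid.Gradient

set_option autoImplicit false
set_option linter.unusedSectionVars false

universe u v w

namespace Groth.Agent.Lib.DPRigid

variable {O : Type u} [CommRing O] [IsLocalRing O]
variable {A : Type v} [CommRing A] [Algebra O A] [IsLocalRing A]
variable {m : ℕ} (φ : MvPowerSeries (Fin m) O →ₐ[O] A) (hφ : Function.Surjective φ)
variable {f : Fin m → MvPowerSeries (Fin m) O} (hker : RingHom.ker φ = Ideal.span (Set.range f))

include hker in
theorem map_f (i : Fin m) : φ (f i) = 0 := by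
  have : f i ∈ RingHom.ker φ := hker ▸ Ideal.subset_span ⟨i, rfl⟩
  exact this

include hφ hker in
theorem jacobian_inj (α : A) (hkill : ∀ w : KaehlerDifferential O A, α • w = 0)
    (hα : ∀ y : A, α ^ m * y = 0 → y = 0) (c : Fin m → A)
    (hc : ∀ l, ∑ i, c i * φ (MvPowerSeries.pderiv O l (f i)) = 0) : c = 0 := by
  classical
  have hf0 := map_f φ hker
  let J : Matrix (Fin m) (Fin m) A := Matrix.of fun i l => φ (MvPowerSeries.pderiv O l (f i))
  choose h hh hdh using fun j => exists_grad φ hφ (fun i => MvPowerSeries.pderiv O i) MvPowerSeries.X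
    (fun i j => by simp [MvPowerSeries.pderiv_X, Pi.single_apply, eq_comm]) α hkill j
  have hmem : ∀ j, ∃ d : Fin m → MvPowerSeries (Fin m) O, h j = ∑ i, d i * f i := fun j => by
    have : h j ∈ RingHom.ker φ := hh j
    rw [hker, Ideal.mem_span_range_iff_exists_fun] at this
    obtain ⟨d, hd⟩ := this
    exact ⟨d, hd.symm⟩
  choose d hd using hmem
  have hMJ : Matrix.of (fun j i => φ (d j i)) * J = Matrix.scalar (Fin m) α := by
    ext j l
    rw [Matrix.mul_apply, Matrix.scalar_apply, Matrix.diagonal_apply]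
    have := hdh j l
    rw [hd, map_sum, map_sum] at this
    simp only [Derivation.leibniz, map_add, smul_eq_mul, map_mul, hf0, zero_mul, mul_zero, add_zero] at this
    simp only [J, Matrix.of_apply, eq_comm (a := j) (b := l)]
    exact this
  have hdet : (Matrix.of fun j i => φ (d j i)).det * J.det = α ^ m := by
    rw [← Matrix.det_mul, hMJ]
    simp
  have hcJ : Matrix.vecMul c J = 0 := funext fun l => hc l
  have hcd : J.det • c = 0 := by
    have := congrArg (fun v => Matrix.vecMul v J.adjugate) hcJ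
    simpa [Matrix.vecMul_vecMul, Matrix.mul_adjugate, Matrix.vecMul_smul] using this
  funext i
  refine hα _ ?_
  rw [← hdet, mul_assoc]
  have := congrFun hcd i
  simp only [Pi.smul_apply, smul_eq_mul, Pi.zero_apply] at this
  rw [this, mul_zero]

theorem conormal (hφ : Function.Surjective φ) (hker : RingHom.ker φ = Ideal.span (Set.range f))
    (hJ : ∀ c : Fin m → A, (∀ l, ∑ i, c i * φ (MvPowerSeries.pderiv O l (f i)) = 0) → c = 0)
    (hxm : ∀ l, φ (MvPowerSeries.X l) ∈ IsLocalRing.maximalIdeal A)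
    (s : Finset (Fin m)) (π : MvPolynomial s O →ₐ[O] A)
    (hπX : ∀ j : s, π (MvPolynomial.X j) = φ (MvPowerSeries.X (j : Fin m)))
    (hπ : Function.Surjective π) (g : MvPolynomial s O) (hg : g ∈ RingHom.ker π)
    (hdg : ∀ j, MvPolynomial.pderiv j g ∈ RingHom.ker π) (N : ℕ) :
    g ∈ RingHom.ker π ^ 2 ⊔ (IsLocalRing.maximalIdeal A).comap π ^ N := by
  classical
  set x : Fin m → A := fun l => φ (MvPowerSeries.X l) with hx
  have hspanx : Ideal.span (Set.range x) ≤ IsLocalRing.maximalIdeal A :=
    Ideal.span_le.2 (by rintro _ ⟨l, rfl⟩; exact hxm l)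
  set M := (IsLocalRing.maximalIdeal A).comap π with hMdef
  choose ψ hψ using fun l => hπ (x l)
  let θ : Fin m → MvPolynomial s O := fun l => if hl : l ∈ s then MvPolynomial.X ⟨l, hl⟩ else ψ l
  have hθ : ∀ l, π (θ l) = x l := fun l => by
    by_cases hl : l ∈ s <;> simp [θ, hl, hψ, hπX, hx]
  let τ : MvPolynomial (Fin m) O →ₐ[O] MvPolynomial s O := MvPolynomial.aeval θ
  have hπτ : ∀ p, π (τ p) = φ (p : MvPowerSeries (Fin m) O) := by
    intro p
    induction p using MvPolynomial.induction_on with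
    | C c =>
      rw [MvPolynomial.coe_C, show MvPowerSeries.C c = algebraMap O (MvPowerSeries (Fin m) O) c from rfl,
        φ.commutes, ← MvPolynomial.algebraMap_eq, τ.commutes, π.commutes]
    | add p q hp hq => rw [map_add τ, map_add π, hp, hq, MvPolynomial.coe_add, map_add φ]
    | mul_X p l hp =>
      rw [map_mul τ, map_mul π, hp, MvPolynomial.coe_mul, map_mul φ, MvPolynomial.coe_X,
        show τ (MvPolynomial.X l) = θ l from MvPolynomial.aeval_X θ l, hθ]
  set g₁ := MvPolynomial.rename (Subtype.val : s → Fin m) g with hg₁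
  have hτg : τ g₁ = g := by
    rw [hg₁]
    change MvPolynomial.aeval θ (MvPolynomial.rename Subtype.val g) = g
    rw [MvPolynomial.aeval_rename, show θ ∘ (Subtype.val : s → Fin m) = MvPolynomial.X from funext fun j => by simp [θ],
      MvPolynomial.aeval_X_left_apply]
  have hgk : (g₁ : MvPowerSeries (Fin m) O) ∈ RingHom.ker φ := by
    rw [RingHom.mem_ker, ← hπτ, hτg]
    exact hg
  rw [hker, Ideal.mem_span_range_iff_exists_fun] at hgk
  obtain ⟨c, hc⟩ := hgk
  have hf0 := map_f φ hker
  have hc0 : (fun i => φ (c i)) = 0 := by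
    refine hJ _ fun l => ?_
    have h1 : φ (MvPowerSeries.pderiv O l (g₁ : MvPowerSeries (Fin m) O)) = 0 := by
      rw [MvPowerSeries.pderiv_coe, ← hπτ]
      by_cases hl : l ∈ s
      · obtain ⟨j, rfl⟩ : ∃ j : s, (j : Fin m) = l := ⟨⟨l, hl⟩, rfl⟩
        rw [hg₁, MvPolynomial.pderiv_rename Subtype.val_injective]
        change π (MvPolynomial.aeval θ (MvPolynomial.rename Subtype.val (MvPolynomial.pderiv j g))) = 0
        rw [MvPolynomial.aeval_rename, show θ ∘ (Subtype.val : s → Fin m) = MvPolynomial.X from funext fun j => by simp [θ],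
          MvPolynomial.aeval_X_left_apply]
        exact hdg j
      · have h2 : MvPolynomial.pderiv l g₁ = 0 := by
          refine MvPolynomial.pderiv_eq_zero_of_notMem_vars fun hmem => hl ?_
          obtain ⟨j, -, hj⟩ := Finset.mem_image.1 (MvPolynomial.vars_rename Subtype.val g hmem)
          exact hj ▸ j.2
        simp [h2]
    rw [← hc, map_sum, map_sum] at h1
    simp only [Derivation.leibniz, map_add, smul_eq_mul, map_mul, hf0, zero_mul, mul_zero, add_zero] at h1
    exact h1
  set L : ℕ := m * N + N + 1 with hL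
  have hτI : (MvPolynomial.idealOfVars (Fin m) O ^ L).map τ ≤ M ^ N := by
    rw [Ideal.map_pow]
    refine (Ideal.pow_right_mono (Ideal.map_le_iff_le_comap.2 (Ideal.span_le.2 ?_)) L).trans
      (Ideal.pow_le_pow_right (by omega))
    rintro _ ⟨l, rfl⟩
    change π (τ (MvPolynomial.X l)) ∈ IsLocalRing.maximalIdeal A
    rw [show τ (MvPolynomial.X l) = θ l from MvPolynomial.aeval_X θ l, hθ]
    exact hxm l
  have hpick : ∀ h : MvPowerSeries (Fin m) O, φ h = 0 →
      τ (MvPowerSeries.truncTotal L h) ∈ RingHom.ker π ⊔ M ^ N := by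
    intro h hh
    have h1 : φ (h - ((MvPowerSeries.truncTotal L h : MvPolynomial (Fin m) O) : MvPowerSeries (Fin m) O))
        ∈ Ideal.span (Set.range x) ^ N := by
      refine map_mem_pow φ (Ideal.span (Set.range x)) (fun l => Ideal.subset_span ⟨l, rfl⟩) N Finset.univ _ fun n hn => ?_
      have hdn : n.degree < L := by
        rw [Finsupp.degree_eq_sum]
        have : ∑ l, n l ≤ ∑ _l : Fin m, N :=
          Finset.sum_le_sum fun l _ => (hn l (Finset.mem_univ l)).le
        simp only [Finset.sum_const, Finset.card_univ, Fintype.card_fin, smul_eq_mul] at this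
        omega
      rw [map_sub, MvPolynomial.coeff_coe, MvPowerSeries.coeff_truncTotal _ hdn, sub_self]
    have h2 : π (τ (MvPowerSeries.truncTotal L h)) ∈ IsLocalRing.maximalIdeal A ^ N := by
      rw [hπτ]
      rw [map_sub, hh, zero_sub, neg_mem_iff] at h1
      exact Ideal.pow_right_mono hspanx N h1
    have h3 : τ (MvPowerSeries.truncTotal L h) ∈ Ideal.comap π (Ideal.map π (M ^ N)) := by
      rw [Ideal.mem_comap, Ideal.map_pow, hMdef, Ideal.map_comap_of_surjective π hπ]
      exact h2
    rw [Ideal.comap_map_of_surjective' π hπ, sup_comm] at h3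
    exact h3
  have h4 : g₁ - ∑ i, MvPowerSeries.truncTotal L (c i) * MvPowerSeries.truncTotal L (f i)
      ∈ MvPolynomial.idealOfVars (Fin m) O ^ L := by
    have h5 : g₁ - MvPowerSeries.truncTotal L (g₁ : MvPowerSeries (Fin m) O)
        ∈ MvPolynomial.idealOfVars (Fin m) O ^ L :=
      (MvPolynomial.mem_pow_idealOfVars_iff' _ _).2 fun n hn => by
        rw [MvPolynomial.coeff_sub, MvPowerSeries.coeff_truncTotal _ hn, MvPolynomial.coeff_coe, sub_self]
    have h6 := Ideal.sum_mem _ fun i (_ : i ∈ (Finset.univ : Finset (Fin m))) =>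
      MvPowerSeries.truncTotal_mul_sub_mul_truncTotal_mem_pow_idealOfVars (n := L) (c i) (f i)
    rw [Finset.sum_sub_distrib, ← map_sum (MvPowerSeries.truncTotal L), hc] at h6
    have h7 := add_mem h5 h6
    rwa [sub_add_sub_cancel] at h7
  have h8 := hτI (Ideal.mem_map_of_mem τ h4)
  rw [map_sub, hτg, map_sum] at h8
  rw [← sub_add_cancel g (∑ i, τ (MvPowerSeries.truncTotal L (c i) * MvPowerSeries.truncTotal L (f i)))]
  refine add_mem (Submodule.mem_sup_right h8) (Ideal.sum_mem _ fun i _ => ?_)
  rw [map_mul]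
  have h9 := Ideal.mul_mem_mul (hpick _ (congrFun hc0 i)) (hpick _ (hf0 i))
  have h10 : (RingHom.ker π ⊔ M ^ N) * (RingHom.ker π ⊔ M ^ N) ≤ RingHom.ker π ^ 2 ⊔ M ^ N := by
    rw [Ideal.sup_mul, Ideal.mul_sup, ← pow_two]
    exact sup_le (sup_le_sup_left Ideal.mul_le_right _) (le_sup_of_le_right Ideal.mul_le_left)
  exact h10 h9

end Groth.Agent.Lib.DPRigid
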