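import Groth.Prelude.Def_W4c1noabschz1DP
import Groth.Agent.Lib.Adic.Complete
import Mathlib.Algebra.MvPolynomial.PDeriv
import Mathlib.Algebra.Polynomial.Derivative
import Mathlib.RingTheory.DividedPowers.Basic
import Mathlib.RingTheory.Filtration

/-! The divided power filtration, Taylor expansion with divided powers. -/

set_option autoImplicit false

universe u v w

namespace Groth.Agent.Lib.DPRigid

open W4c1noabschz1

variable {S : Type u} [CommRing S] {I : Ideal S} (hI : DividedPowers I)

theorem prod_mem_dpPow {r : ℕ} (x : Fin r → S) (n : Fin r → ℕ) (hx : ∀ i, x i ∈ I)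
    {m : ℕ} (hm : m ≤ ∑ i, n i) : ∏ i, hI.dpow (n i) (x i) ∈ dpPow hI m :=
  Ideal.subset_span ⟨r, x, n, hx, hm, rfl⟩

theorem dpow_mem_dpPow {k : ℕ} {x : S} (hx : x ∈ I) {m : ℕ} (hm : m ≤ k) :
    hI.dpow k x ∈ dpPow hI m := by
  simpa using prod_mem_dpPow hI (fun _ : Fin 1 => x) (fun _ => k) (fun _ => hx) (m := m) (by simpa)

theorem dpPow_anti {m n : ℕ} (h : m ≤ n) : dpPow hI n ≤ dpPow hI m := by
  refine Ideal.span_le.2 ?_
  rintro z ⟨r, x, k, hx, hk, rfl⟩
  exact prod_mem_dpPow hI x k hx (h.trans hk)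

theorem dpPow_zero : dpPow hI 0 = ⊤ :=
  Ideal.eq_top_of_isUnit_mem _
    (prod_mem_dpPow hI (fun _ : Fin 0 => (0 : S)) (fun _ => 0) (fun i => i.elim0) (Nat.zero_le _))
    (by simp)

theorem le_dpPow_one : I ≤ dpPow hI 1 := fun x hx => by
  simpa [hI.dpow_one hx] using dpow_mem_dpPow hI hx (le_refl 1)

theorem dpPow_le {m : ℕ} (hm : 1 ≤ m) : dpPow hI m ≤ I := by
  refine Ideal.span_le.2 ?_
  rintro z ⟨r, x, k, hx, hk, rfl⟩
  obtain ⟨i, -, hi⟩ : ∃ i ∈ (Finset.univ : Finset (Fin r)), k i ≠ 0 := by
    by_contra h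
    push Not at h
    have := Finset.sum_eq_zero (s := Finset.univ) h
    omega
  exact Ideal.prod_mem I (f := fun j => hI.dpow (k j) (x j)) (Finset.mem_univ i) (hI.dpow_mem hi (hx i))

theorem dpPow_mul_le (m n : ℕ) : dpPow hI m * dpPow hI n ≤ dpPow hI (m + n) := by
  rw [dpPow, dpPow, Ideal.span_mul_span', Ideal.span_le]
  rintro z ⟨a, ⟨r, x, k, hx, hk, rfl⟩, b, ⟨r', x', k', hx', hk', rfl⟩, rfl⟩
  have := prod_mem_dpPow hI (Fin.append x x') (Fin.append k k')
    (fun i => Fin.addCases (fun i => by simpa using hx i) (fun i => by simpa using hx' i) i)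
    (m := m + n) (by simp [Fin.sum_univ_add]; omega)
  simpa [Fin.prod_univ_add] using this

theorem mul_mem_succ {n : ℕ} (hn : 1 ≤ n) {a b : S} (ha : a ∈ dpPow hI n) (hb : b ∈ dpPow hI n) :
    a * b ∈ dpPow hI (n + 1) :=
  dpPow_anti hI (show n + 1 ≤ n + n by omega) (dpPow_mul_le hI n n (Ideal.mul_mem_mul ha hb))

/-- Higher divided powers of an element of the `n`-th piece lie in the next piece. -/
theorem dpow_mem_succ {n : ℕ} (hn : 1 ≤ n) {h : S} (hh : h ∈ dpPow hI n) (k : ℕ) :
    (1 ≤ k → hI.dpow k h ∈ dpPow hI n) ∧ (2 ≤ k → hI.dpow k h ∈ dpPow hI (n + 1)) := by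
  suffices H : (1 ≤ k → hI.dpow k h ∈ dpPow hI n) ∧ (2 ≤ k → hI.dpow k h ∈ dpPow hI (n + 1)) from H
  induction hh using Submodule.span_induction generalizing k with
  | mem z hz =>
    obtain ⟨r, x, e, hx, he, rfl⟩ := hz
    suffices H : 1 ≤ k → hI.dpow k (∏ i, hI.dpow (e i) (x i)) ∈ dpPow hI (k * n) by
      refine ⟨fun hk => dpPow_anti hI (Nat.le_mul_of_pos_left n hk) (H hk),
        fun hk => dpPow_anti hI ?_ (H (by omega))⟩
      nlinarith
    intro hk
    obtain ⟨i, -, hi⟩ : ∃ i ∈ (Finset.univ : Finset (Fin r)), e i ≠ 0 := by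
      by_contra h'
      push Not at h'
      have := Finset.sum_eq_zero (s := Finset.univ) h'
      omega
    classical
    set w : S := ∏ j ∈ Finset.univ.erase i, hI.dpow (e j) (x j)
    have hw : w ∈ dpPow hI (∑ j ∈ Finset.univ.erase i, e j) := by
      have := prod_mem_dpPow hI x (Function.update e i 0) hx
        (m := ∑ j ∈ Finset.univ.erase i, e j) (le_of_eq (by
          rw [← Finset.add_sum_erase _ _ (Finset.mem_univ i)]
          simp only [Function.update_self, zero_add]
          exact Finset.sum_congr rfl fun j hj => (Function.update_of_ne (Finset.mem_erase.1 hj).1 _ _).symm))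
      rw [← Finset.mul_prod_erase _ _ (Finset.mem_univ i)] at this
      simp only [Function.update_self, hI.dpow_zero (hx i), one_mul] at this
      have hw' : w = ∏ j ∈ Finset.univ.erase i, hI.dpow (Function.update e i 0 j) (x j) :=
        Finset.prod_congr rfl fun j hj => by rw [Function.update_of_ne (Finset.mem_erase.1 hj).1]
      rw [hw']
      exact this
    rw [← Finset.prod_erase_mul _ _ (Finset.mem_univ i), hI.dpow_mul (hI.dpow_mem hi (hx i)),
      hI.dpow_comp hi (hx i)]
    refine dpPow_anti hI ?_ (dpPow_mul_le hI (k * ∑ j ∈ Finset.univ.erase i, e j) (k * e i)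
      (Ideal.mul_mem_mul ?_ (Ideal.mul_mem_left _ _ (dpow_mem_dpPow hI (hx i) le_rfl))))
    · rw [← Nat.mul_add, Finset.sum_erase_add _ _ (Finset.mem_univ i)]
      exact Nat.mul_le_mul_left k he
    · clear hk
      induction k with
      | zero => simp [dpPow_zero]
      | succ k ih =>
        rw [pow_succ, Nat.succ_mul]
        exact dpPow_mul_le hI _ _ (Ideal.mul_mem_mul ih hw)
  | zero => constructor <;> intro hk <;> rw [hI.dpow_eval_zero (by omega)] <;> exact zero_mem _
  | add a b ha hb iha ihb =>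
    have haI : a ∈ I := dpPow_le hI hn ha
    have hbI : b ∈ I := dpPow_le hI hn hb
    constructor
    · intro hk
      rw [hI.dpow_add haI hbI]
      refine Ideal.sum_mem _ fun c hc => ?_
      rw [Finset.mem_antidiagonal] at hc
      rcases Nat.eq_zero_or_pos c.1 with h1 | h1
      · exact Ideal.mul_mem_left _ _ ((ihb c.2).1 (by omega))
      · exact Ideal.mul_mem_right _ _ ((iha c.1).1 h1)
    · intro hk
      rw [hI.dpow_add haI hbI]
      refine Ideal.sum_mem _ fun c hc => ?_
      rw [Finset.mem_antidiagonal] at hc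
      rcases Nat.eq_zero_or_pos c.1 with h1 | h1
      · exact Ideal.mul_mem_left _ _ ((ihb c.2).2 (by omega))
      rcases Nat.eq_zero_or_pos c.2 with h2 | h2
      · exact Ideal.mul_mem_right _ _ ((iha c.1).2 (by omega))
      exact mul_mem_succ hI hn ((iha c.1).1 h1) ((ihb c.2).1 h2)
  | smul c a ha iha =>
    rw [smul_eq_mul, hI.dpow_mul (dpPow_le hI hn ha)]
    exact ⟨fun hk => Ideal.mul_mem_left _ _ ((iha k).1 hk), fun hk => Ideal.mul_mem_left _ _ ((iha k).2 hk)⟩

open MvPolynomial in
/-- Taylor expansion in one variable with divided powers. -/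
theorem taylor {O : Type v} [CommRing O] [Algebra O S] {σ : Type w} [DecidableEq σ]
    (g : MvPolynomial σ O) (y : σ → S) (j : σ) {h : S} (hh : h ∈ I) :
    ∃ D : ℕ, 2 ≤ D ∧ aeval (Function.update y j (y j + h)) g =
      ∑ k ∈ Finset.range D, aeval y ((⇑(pderiv j))^[k] g) * hI.dpow k h := by
  let v : σ → Polynomial S := fun l => Polynomial.C (y l) + if l = j then Polynomial.X else 0
  have hd : ∀ p : MvPolynomial σ O, Polynomial.derivative (aeval v p) = aeval v (pderiv j p) := by
    intro p
    induction p using MvPolynomial.induction_on with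
    | C c => simp [Polynomial.algebraMap_apply]
    | add p q hp hq => simp [hp, hq]
    | mul_X p l hp =>
      simp only [map_mul, Polynomial.derivative_mul, hp, aeval_X, pderiv_mul, map_add, pderiv_X]
      by_cases hl : l = j
      · subst hl; simp [v]
      · simp [v, hl]
  have hit : ∀ (k : ℕ) (p : MvPolynomial σ O),
      Polynomial.derivative^[k] (aeval v p) = aeval v ((⇑(pderiv j))^[k] p) := by
    intro k
    induction k with
    | zero => simp
    | succ k ih => intro p; rw [Function.iterate_succ_apply, Function.iterate_succ_apply, hd, ih]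
  have h0 : ∀ p : MvPolynomial σ O, (aeval v p).coeff 0 = aeval y p := by
    intro p
    have h1 : ((Polynomial.aeval (0 : S)).restrictScalars O).comp (aeval v) =
        (aeval y : MvPolynomial σ O →ₐ[O] S) := by
      refine MvPolynomial.algHom_ext fun l => ?_
      by_cases hl : l = j <;> simp [v, hl]
    rw [← h1]
    simp [Polynomial.coeff_zero_eq_eval_zero]
  have hev : aeval (Function.update y j (y j + h)) g = (aeval v g).eval h := by
    have h1 : ((Polynomial.aeval h).restrictScalars O).comp (aeval v) =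
        (aeval (Function.update y j (y j + h)) : MvPolynomial σ O →ₐ[O] S) := by
      refine MvPolynomial.algHom_ext fun l => ?_
      by_cases hl : l = j
      · subst hl; simp [v]
      · simp [v, hl]
    rw [← h1]
    simp
  refine ⟨(aeval v g).natDegree + 2, by omega, ?_⟩
  rw [hev, Polynomial.eval_eq_sum_range' (n := (aeval v g).natDegree + 2) (by omega)]
  refine Finset.sum_congr rfl fun k _ => ?_
  rw [← h0, ← hit, Polynomial.coeff_iterate_derivative, zero_add, Nat.descFactorial_self,
    ← hI.factorial_mul_dpow_eq_pow hh, nsmul_eq_mul]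
  ring

/-- Closedness of ideals for an adic topology inside the Jacobson radical. -/
theorem mem_of_forall_mem_sup_pow [IsNoetherianRing S] {Q M : Ideal S} (hM : M ≤ Ideal.jacobson ⊥)
    {x : S} (h : ∀ N, x ∈ Q ⊔ M ^ N) : x ∈ Q := by
  have h1 : (Submodule.Quotient.mk x : S ⧸ Q) ∈ (⨅ N : ℕ, M ^ N • ⊤ : Submodule S (S ⧸ Q)) := by
    refine Submodule.mem_iInf _ |>.2 fun N => ?_
    obtain ⟨q, hq, r, hr, hx⟩ := Submodule.mem_sup.1 (h N)
    have h2 : (Submodule.Quotient.mk x : S ⧸ Q) = r • Submodule.Quotient.mk (1 : S) := by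
      rw [← Submodule.Quotient.mk_smul, smul_eq_mul, mul_one, Submodule.Quotient.eq, ← hx]
      simpa using hq
    rw [h2]
    exact Submodule.smul_mem_smul hr Submodule.mem_top
  rw [Ideal.iInf_pow_smul_eq_bot_of_le_jacobson M hM, Submodule.mem_bot,
    Submodule.Quotient.mk_eq_zero] at h1
  exact h1

end Groth.Agent.Lib.DPRigid
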