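import Groth.Agent.Lib.DPRigid.Gradient

set_option autoImplicit false
set_option linter.unusedSectionVars false

universe u v w

namespace Groth.Agent.Lib.DPRigid

variable {O : Type u} [CommRing O] [IsLocalRing O]
variable {A : Type v} [CommRing A] [Algebra O A] [IsLocalRing A]
variable {m : ℕ} (φ : MvPowerSeries (Fin m) O →ₐ[O] A) (hφ : Function.Surjective φ)

include hφ in
theorem map_X_mem (l : Fin m) : φ (MvPowerSeries.X l) ∈ IsLocalRing.maximalIdeal A := by
  haveI hloc : IsLocalHom φ.toRingHom := IsLocalHom.of_surjective φ.toRingHom hφ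
  refine (IsLocalRing.mem_maximalIdeal _).2 fun hu => ?_
  have := hloc.map_nonunit _ hu
  rw [MvPowerSeries.isUnit_iff_constantCoeff] at this
  simp at this

include hφ in
theorem algebraMap_mem {c : O} (hc : c ∈ IsLocalRing.maximalIdeal O) :
    algebraMap O A c ∈ IsLocalRing.maximalIdeal A := by
  haveI hloc : IsLocalHom φ.toRingHom := IsLocalHom.of_surjective φ.toRingHom hφ
  refine (IsLocalRing.mem_maximalIdeal _).2 fun hu => ?_
  rw [← φ.commutes] at hu
  have := hloc.map_nonunit _ hu
  rw [MvPowerSeries.isUnit_iff_constantCoeff] at this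
  exact (IsLocalRing.mem_maximalIdeal c).1 hc (by simpa [MvPowerSeries.algebraMap_apply] using this)

theorem sub_const_mem (h : MvPowerSeries (Fin m) O) :
    φ h - algebraMap O A (MvPowerSeries.constantCoeff h) ∈
      Ideal.span (Set.range fun l => φ (MvPowerSeries.X l)) := by
  classical
  have := map_mem_pow φ (Ideal.span (Set.range fun l => φ (MvPowerSeries.X l)))
    (fun l => Ideal.subset_span ⟨l, rfl⟩) 1 Finset.univ
    (h - algebraMap O _ (MvPowerSeries.constantCoeff h)) fun n hn => by
      have : n = 0 := Finsupp.ext fun l => by simpa using hn l (Finset.mem_univ l)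
      subst this
      simp [MvPowerSeries.algebraMap_apply]
  simpa using this

include hφ in
theorem span_X_le : Ideal.span (Set.range fun l => φ (MvPowerSeries.X l)) ≤ IsLocalRing.maximalIdeal A :=
  Ideal.span_le.2 (by rintro _ ⟨l, rfl⟩; exact map_X_mem φ hφ l)

include hφ in
theorem maximalIdeal_le : IsLocalRing.maximalIdeal A ≤
    (IsLocalRing.maximalIdeal O).map (algebraMap O A) ⊔ Ideal.span (Set.range fun l => φ (MvPowerSeries.X l)) := by
  intro y hy
  obtain ⟨h, rfl⟩ := hφ y
  have hc : MvPowerSeries.constantCoeff h ∈ IsLocalRing.maximalIdeal O := by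
    by_contra hc
    rw [IsLocalRing.mem_maximalIdeal, mem_nonunits_iff, not_not] at hc
    have h1 := sub_mem hy (span_X_le φ hφ (sub_const_mem φ h))
    rw [sub_sub_cancel] at h1
    exact (IsLocalRing.mem_maximalIdeal _).1 h1 (hc.map _)
  rw [← sub_add_cancel (φ h) (algebraMap O A (MvPowerSeries.constantCoeff h))]
  exact add_mem (Submodule.mem_sup_right (sub_const_mem φ h))
    (Submodule.mem_sup_left (Ideal.mem_map_of_mem _ hc))

include hφ in
theorem exists_residue (y : A) : ∃ c : O, y - algebraMap O A c ∈ IsLocalRing.maximalIdeal A := by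
  obtain ⟨h, rfl⟩ := hφ y
  exact ⟨_, span_X_le φ hφ (sub_const_mem φ h)⟩

variable [IsNoetherianRing O] [Module.Finite O A]

theorem exists_pow_le :
    ∃ N, IsLocalRing.maximalIdeal A ^ N ≤ (IsLocalRing.maximalIdeal O).map (algebraMap O A) := by
  haveI : IsNoetherianRing A := IsNoetherianRing.of_finite O A
  refine Ideal.exists_pow_le_of_le_radical_of_fg ?_ (IsNoetherian.noetherian _)
  rw [Ideal.radical_eq_sInf]
  refine le_sInf fun Q ⟨hQ, hQp⟩ => ?_
  haveI := hQp
  have h3 : Q.comap (algebraMap O A) = IsLocalRing.maximalIdeal O :=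
    le_antisymm (IsLocalRing.le_maximalIdeal (Ideal.IsPrime.ne_top inferInstance))
      (Ideal.map_le_iff_le_comap.1 hQ)
  have hQm : Q.IsMaximal :=
    Ideal.isMaximal_of_isIntegral_of_isMaximal_comap Q (h3 ▸ IsLocalRing.maximalIdeal.isMaximal O)
  rw [IsLocalRing.eq_maximalIdeal hQm]

include hφ in
theorem adjoin_eq_top (t : Set (Fin m))
    (ht : ∀ y ∈ IsLocalRing.maximalIdeal A, y ∈ (IsLocalRing.maximalIdeal O).map (algebraMap O A) ⊔
      Ideal.span ((fun l => φ (MvPowerSeries.X l)) '' t) ⊔ IsLocalRing.maximalIdeal A ^ 2) :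
    Algebra.adjoin O ((fun l => φ (MvPowerSeries.X l)) '' t) = ⊤ := by
  set x : Fin m → A := fun l => φ (MvPowerSeries.X l) with hx
  have hspanx := span_X_le φ hφ
  have hres := exists_residue φ hφ
  have h1 : IsLocalRing.maximalIdeal A ≤
      (IsLocalRing.maximalIdeal O).map (algebraMap O A) ⊔ Ideal.span (x '' t) := by
    refine Submodule.le_of_le_smul_of_le_jacobson_bot ?_ (IsLocalRing.maximalIdeal_le_jacobson ⊥)
      (fun y hy => ?_)
    · haveI : IsNoetherianRing A := IsNoetherianRing.of_finite O A
      exact IsNoetherian.noetherian _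
    · rw [smul_eq_mul, ← pow_two]
      exact ht y hy
  set B := Algebra.adjoin O (x '' t)
  have h2 : ∀ N (y : A), ∃ b ∈ B, y - b ∈ (IsLocalRing.maximalIdeal O).map (algebraMap O A) ⊔
      IsLocalRing.maximalIdeal A ^ N := by
    intro N
    induction N with
    | zero => exact fun y => ⟨0, B.zero_mem, by simp⟩
    | succ N ih =>
      have hstep : ∀ y ∈ IsLocalRing.maximalIdeal A, ∃ b ∈ B, y - b ∈
          (IsLocalRing.maximalIdeal O).map (algebraMap O A) ⊔ IsLocalRing.maximalIdeal A ^ (N + 1) := by
        intro y hy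
        obtain ⟨p, hp, q, hq, rfl⟩ := Submodule.mem_sup.1 (h1 hy)
        suffices H : ∃ b ∈ B, q - b ∈
            (IsLocalRing.maximalIdeal O).map (algebraMap O A) ⊔ IsLocalRing.maximalIdeal A ^ (N + 1) by
          obtain ⟨b, hb, hqb⟩ := H
          exact ⟨b, hb, by rw [add_sub_assoc]; exact add_mem (Submodule.mem_sup_left hp) hqb⟩
        clear hy hp
        induction hq using Submodule.span_induction with
        | mem z hz => exact ⟨z, Algebra.subset_adjoin hz, by simp⟩
        | zero => exact ⟨0, B.zero_mem, by simp⟩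
        | add z z' _ _ hz hz' =>
          obtain ⟨b, hb, h⟩ := hz
          obtain ⟨b', hb', h'⟩ := hz'
          exact ⟨b + b', B.add_mem hb hb', by rw [add_sub_add_comm]; exact add_mem h h'⟩
        | smul c z hz' hz =>
          obtain ⟨b, hb, h⟩ := hz
          obtain ⟨b', hb', h'⟩ := ih c
          refine ⟨b' * b, B.mul_mem hb' hb, ?_⟩
          have hzm : z ∈ IsLocalRing.maximalIdeal A :=
            (Ideal.span_mono (Set.image_subset_range _ _)).trans hspanx hz'
          have h'' : (c - b') * z ∈
              (IsLocalRing.maximalIdeal O).map (algebraMap O A) ⊔ IsLocalRing.maximalIdeal A ^ (N + 1) := by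
            obtain ⟨u, hu, w, hw, huw⟩ := Submodule.mem_sup.1 h'
            rw [← huw, add_mul, pow_succ]
            exact Submodule.add_mem_sup (Ideal.mul_mem_right _ _ hu) (Ideal.mul_mem_mul hw hzm)
          have e1 : c • z - b' * b = (c - b') * z + b' * (z - b) := by rw [smul_eq_mul]; ring
          rw [e1]
          exact add_mem h'' (Ideal.mul_mem_left _ _ h)
      intro y
      obtain ⟨c, hc⟩ := hres y
      obtain ⟨b, hb, h⟩ := hstep _ hc
      exact ⟨algebraMap O A c + b, B.add_mem (B.algebraMap_mem c) hb, by rwa [← sub_sub]⟩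
  obtain ⟨N, hN⟩ := exists_pow_le (O := O) (A := A)
  have h3 : (⊤ : Submodule O A) ≤ B.toSubmodule := by
    refine Submodule.le_of_le_smul_of_le_jacobson_bot Module.Finite.fg_top
      (IsLocalRing.maximalIdeal_le_jacobson ⊥) fun y _ => ?_
    obtain ⟨b, hb, h⟩ := h2 N y
    rw [sup_eq_left.2 hN] at h
    rw [← add_sub_cancel b y]
    refine Submodule.add_mem_sup hb ?_
    rw [Ideal.smul_top_eq_map]
    exact h
  exact eq_top_iff.2 fun y _ => h3 Submodule.mem_top

include hφ in
theorem adjoin_eq_top_of_span_D (s : Set (Fin m))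
    (hs : Submodule.span A ((fun l => KaehlerDifferential.D O A (φ (MvPowerSeries.X l))) '' s) = ⊤) :
    Algebra.adjoin O ((fun l => φ (MvPowerSeries.X l)) '' s) = ⊤ := by
  set x : Fin m → A := fun l => φ (MvPowerSeries.X l) with hx
  have hxm := map_X_mem φ hφ
  have hres := exists_residue φ hφ
  refine adjoin_eq_top φ hφ _ fun y hy => ?_
  set T : Ideal A := (IsLocalRing.maximalIdeal O).map (algebraMap O A) ⊔ Ideal.span (x '' s) ⊔
    IsLocalRing.maximalIdeal A ^ 2
  choose c hc using hres
  have hc' : ∀ z o, z - algebraMap O A o ∈ IsLocalRing.maximalIdeal A →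
      (z - algebraMap O A o) - (z - algebraMap O A (c z)) ∈ T := fun z o hzo => by
    rw [sub_sub_sub_cancel_left, ← map_sub]
    refine Submodule.mem_sup_left (Submodule.mem_sup_left (Ideal.mem_map_of_mem _ ?_))
    by_contra hu
    rw [IsLocalRing.mem_maximalIdeal, mem_nonunits_iff, not_not] at hu
    have h1 := sub_mem hzo (hc z)
    rw [sub_sub_sub_cancel_left, ← map_sub] at h1
    exact (IsLocalRing.mem_maximalIdeal _).1 h1 (hu.map _)
  let δ : A →ₗ[O] A ⧸ T :=
    { toFun := fun z => Ideal.Quotient.mk T (z - algebraMap O A (c z))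
      map_add' := fun z z' => by
        rw [← map_add]
        symm
        rw [Ideal.Quotient.eq, sub_add_sub_comm, ← map_add]
        refine hc' (z + z') (c z + c z') ?_
        rw [map_add, ← sub_add_sub_comm]
        exact add_mem (hc z) (hc z')
      map_smul' := fun k z => by
        change _ = k • Ideal.Quotient.mk T _
        rw [← Ideal.Quotient.mkₐ_eq_mk O, ← map_smul, Ideal.Quotient.mkₐ_eq_mk]
        symm
        rw [Ideal.Quotient.eq]
        have e1 : k • (z - algebraMap O A (c z)) = k • z - algebraMap O A (k * c z) := by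
          rw [smul_sub, Algebra.smul_def k (algebraMap O A (c z)), map_mul]
        rw [e1]
        refine hc' (k • z) (k * c z) ?_
        rw [← e1, Algebra.smul_def]
        exact Ideal.mul_mem_left _ _ (hc z) }
  have hsmulT : ∀ w ∈ IsLocalRing.maximalIdeal A, ∀ w' ∈ IsLocalRing.maximalIdeal A, w * w' ∈ T :=
    fun w hw w' hw' => Submodule.mem_sup_right (by rw [pow_two]; exact Ideal.mul_mem_mul hw hw')
  let Δ : Derivation O A (A ⧸ T) := Derivation.mk' δ fun z z' => by
    change Ideal.Quotient.mk T _ = z • Ideal.Quotient.mk T _ + z' • Ideal.Quotient.mk T _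
    rw [Algebra.smul_def, Algebra.smul_def, Ideal.Quotient.algebraMap_eq, ← map_mul, ← map_mul, ← map_add]
    symm
    rw [Ideal.Quotient.eq]
    have e1 : z * z' - algebraMap O A (c z * c z') =
        z * (z' - algebraMap O A (c z')) + z' * (z - algebraMap O A (c z))
          - (z - algebraMap O A (c z)) * (z' - algebraMap O A (c z')) := by rw [map_mul]; ring
    have h1 := hc' (z * z') (c z * c z') (by
      rw [e1]
      exact sub_mem (add_mem (Ideal.mul_mem_left _ _ (hc z')) (Ideal.mul_mem_left _ _ (hc z)))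
        (Ideal.mul_mem_right _ _ (hc z)))
    rw [e1] at h1
    convert add_mem h1 (hsmulT _ (hc z) _ (hc z')) using 1
    ring
  have hΔy : ∀ w ∈ IsLocalRing.maximalIdeal A, Δ w = Ideal.Quotient.mk T w := fun w hw => by
    change Ideal.Quotient.mk T _ = _
    symm
    rw [Ideal.Quotient.eq]
    simpa using hc' w 0 (by simpa using hw)
  have hlift : Δ.liftKaehlerDifferential = 0 := by
    refine LinearMap.ext_on hs ?_
    rintro _ ⟨j, hj, rfl⟩
    simp only [Derivation.liftKaehlerDifferential_comp_D, LinearMap.zero_apply, hΔy _ (hxm j)]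
    exact Ideal.Quotient.eq_zero_iff_mem.2
      (Submodule.mem_sup_left (Submodule.mem_sup_right (Ideal.subset_span ⟨j, hj, rfl⟩)))
  have h1 : Δ y = 0 := by rw [← Derivation.liftKaehlerDifferential_comp_D, hlift, LinearMap.zero_apply]
  rwa [hΔy y hy, Ideal.Quotient.eq_zero_iff_mem] at h1

include hφ in
theorem span_D_eq_top :
    Submodule.span A (Set.range fun l => KaehlerDifferential.D O A (φ (MvPowerSeries.X l))) = ⊤ := by
  classical
  have hall := adjoin_eq_top φ hφ Set.univ fun y hy => by
    rw [Set.image_univ]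
    exact Submodule.mem_sup_left (maximalIdeal_le φ hφ hy)
  rw [eq_top_iff, ← KaehlerDifferential.span_range_derivation, Submodule.span_le]
  rintro _ ⟨y, rfl⟩
  rw [Set.image_univ, Algebra.adjoin_range_eq_range_aeval] at hall
  obtain ⟨p, hp⟩ := AlgHom.range_eq_top _ |>.1 hall y
  rw [← hp, D_aeval]
  exact Submodule.sum_mem _ fun j _ => Submodule.smul_mem _ _ (Submodule.subset_span ⟨j, rfl⟩)

end Groth.Agent.Lib.DPRigid
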