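import Mathlib.RingTheory.DiscreteValuationRing.Basic
import Mathlib.RingTheory.Kaehler.Basic
import Mathlib.RingTheory.MvPowerSeries.Derivative
import Mathlib.RingTheory.MvPowerSeries.Equiv
import Mathlib.RingTheory.MvPolynomial.Ideal
import Mathlib.RingTheory.LocalRing.Quotient
import Mathlib.LinearAlgebra.Matrix.Adjugate
import Mathlib.RingTheory.Flat.TorsionFree
import Mathlib.RingTheory.Nakayama

/-! A small polynomial presentation of a finite flat quotient of a power series ring
whose differentials are free over a quotient by a scalar. -/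

set_option autoImplicit false
set_option linter.unusedSectionVars false

universe u v w

namespace Groth.Agent.Lib.DPRigid

open scoped MvPowerSeries

section Generic

variable {O : Type u} [CommRing O] {A : Type v} [CommRing A] [Algebra O A]

/-- The gradient lemma: if `a` kills the differentials, the multiples `a • e_j` are gradients
of relations. -/
theorem exists_grad {R : Type w} [CommRing R] [Algebra O R] {ι : Type*} [Fintype ι] [DecidableEq ι]
    (φ : R →ₐ[O] A) (hφ : Function.Surjective φ) (d : ι → Derivation O R R) (X : ι → R)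
    (hX : ∀ i j, d i (X j) = if i = j then 1 else 0) (a : A)
    (ha : ∀ w : KaehlerDifferential O A, a • w = 0) (j : ι) :
    ∃ g : R, φ g = 0 ∧ ∀ i, φ (d i g) = if i = j then a else 0 := by
  let grad : R →ₗ[O] (ι → A) :=
    { toFun := fun r i => φ (d i r)
      map_add' := fun r s => by funext i; simp
      map_smul' := fun c r => by funext i; simp }
  have hgrad : ∀ r i, grad r i = φ (d i r) := fun _ _ => rfl
  let W : Submodule A (ι → A) :=
    { carrier := {v | ∃ g, φ g = 0 ∧ grad g = v}
      zero_mem' := ⟨0, map_zero _, map_zero _⟩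
      add_mem' := by
        rintro _ _ ⟨g, hg, rfl⟩ ⟨g', hg', rfl⟩
        exact ⟨g + g', by rw [map_add, hg, hg', add_zero], map_add _ _ _⟩
      smul_mem' := by
        rintro c _ ⟨g, hg, rfl⟩
        obtain ⟨c', rfl⟩ := hφ c
        refine ⟨c' * g, by rw [map_mul, hg, mul_zero], funext fun i => ?_⟩
        simp [hgrad, hg] }
  have hφ' := hφ
  choose sec hsec using hφ'
  have hwd : ∀ r, Submodule.Quotient.mk (p := W) (grad r) = Submodule.Quotient.mk (grad (sec (φ r))) :=
    fun r => (Submodule.Quotient.eq W).2 ⟨r - sec (φ r), by rw [map_sub, hsec, sub_self], map_sub _ _ _⟩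
  let δ : A →ₗ[O] ((ι → A) ⧸ W) :=
    { toFun := fun x => Submodule.Quotient.mk (grad (sec x))
      map_add' := fun x y => by
        have := hwd (sec x + sec y)
        rw [map_add φ, hsec, hsec, map_add grad] at this
        exact this.symm.trans (Submodule.Quotient.mk_add W)
      map_smul' := fun c x => by
        have := hwd (c • sec x)
        rw [map_smul φ, hsec, map_smul grad] at this
        exact this.symm.trans (Submodule.Quotient.mk_smul W _ _) }
  let Δ : Derivation O A ((ι → A) ⧸ W) := Derivation.mk' δ fun x y => by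
    have := hwd (sec x * sec y)
    rw [map_mul φ, hsec, hsec] at this
    refine this.symm.trans ?_
    change _ = x • Submodule.Quotient.mk (grad (sec y)) + y • Submodule.Quotient.mk (grad (sec x))
    rw [← Submodule.Quotient.mk_smul, ← Submodule.Quotient.mk_smul, ← Submodule.Quotient.mk_add]
    congr 1
    funext i
    simp [hgrad, hsec]
  have h0 : a • Δ (φ (X j)) = 0 := by
    rw [← Derivation.liftKaehlerDifferential_comp_D, ← map_smul, ha, map_zero]
  have h1 : a • Submodule.Quotient.mk (p := W) (grad (X j)) = 0 := by rw [hwd]; exact h0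
  rw [← Submodule.Quotient.mk_smul, Submodule.Quotient.mk_eq_zero] at h1
  obtain ⟨g, hg, hgv⟩ := h1
  refine ⟨g, hg, fun i => ?_⟩
  have := congrFun hgv i
  rw [hgrad] at this
  rw [this, Pi.smul_apply, hgrad, hX, smul_eq_mul]
  split_ifs <;> simp

open MvPolynomial in
theorem D_aeval {σ : Type w} [Fintype σ] [DecidableEq σ] (x : σ → A) (p : MvPolynomial σ O) :
    KaehlerDifferential.D O A (aeval x p) =
      ∑ j, aeval x (pderiv j p) • KaehlerDifferential.D O A (x j) := by
  induction p using MvPolynomial.induction_on with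
  | C c => simp
  | add p q hp hq => simp [hp, hq, add_smul, Finset.sum_add_distrib]
  | mul_X p l hp =>
    simp only [map_mul, Derivation.leibniz, hp, aeval_X, smul_eq_mul, map_add, add_smul,
      Finset.sum_add_distrib, Finset.smul_sum, mul_smul]
    congr 1
    rw [Finset.sum_eq_single l (fun j _ hj => by simp [Pi.single_apply, pderiv_X, Ne.symm hj]) (by simp)]
    simp [pderiv_X]

theorem exists_minimal_gen [IsLocalRing A] {ι : Type*} [Finite ι] {r : ℕ} (a : A)
    (Ω : Type*) [AddCommGroup Ω] [Module A Ω] (e : Ω ≃ₗ[A] (Fin r → A ⧸ Ideal.span {a}))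
    (u : ι → Ω) (hu : Submodule.span A (Set.range u) = ⊤) :
    ∃ s : Finset ι, Submodule.span A (u '' s) = ⊤ ∧
      ∀ b : ι → A, ∑ j ∈ s, b j • u j = 0 → ∀ j ∈ s, b j ∈ Ideal.span {a} := by
  classical
  haveI := Fintype.ofFinite ι
  have hne : ∃ n, ∃ s : Finset ι, s.card = n ∧ Submodule.span A (u '' s) = ⊤ :=
    ⟨_, Finset.univ, rfl, by simpa using hu⟩
  obtain ⟨s, hcard, hs⟩ := Nat.find_spec hne
  refine ⟨s, hs, ?_⟩
  let L : (s → A) →ₗ[A] Ω := Fintype.linearCombination A fun j => u j
  have hLs : Function.Surjective L := by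
    rw [← LinearMap.range_eq_top, Fintype.range_linearCombination]
    convert hs
    ext
    simp
  have hker : ∀ v, L v = 0 → ∀ j, v j ∈ IsLocalRing.maximalIdeal A := by
    intro v hv j
    by_contra hj
    rw [IsLocalRing.mem_maximalIdeal, mem_nonunits_iff, not_not] at hj
    obtain ⟨t, ht⟩ := hj
    have hlt : (s.erase j).card < s.card := Finset.card_erase_lt_of_mem j.2
    refine Nat.find_min hne (hcard ▸ hlt) ⟨s.erase j, rfl, ?_⟩
    rw [eq_top_iff, ← hs, Submodule.span_le]
    rintro _ ⟨l, hl, rfl⟩
    by_cases hlj : l = j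
    · subst hlj
      have hv' : v j • u j + ∑ k ∈ Finset.univ.erase j, v k • u k = 0 := by
        rw [Finset.add_sum_erase _ (fun k : s => v k • u k) (Finset.mem_univ j)]
        simpa [L, Fintype.linearCombination_apply] using hv
      rw [← ht] at hv'
      have : u j = (↑t⁻¹ : A) • (-∑ k ∈ Finset.univ.erase j, v k • u k) := by
        rw [← eq_neg_of_add_eq_zero_left hv', ← mul_smul, Units.inv_mul, one_smul]
      rw [this]
      refine Submodule.smul_mem _ _ (neg_mem (Submodule.sum_mem _ fun k hk => ?_))
      refine Submodule.smul_mem _ _ (Submodule.subset_span ⟨k, ?_, rfl⟩)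
      simp [(Finset.mem_erase.1 hk).1, Subtype.val_injective.ne_iff, k.2]
    · exact Submodule.subset_span ⟨l, by simp [hlj, Finset.mem_coe.1 hl], rfl⟩
  choose v₀ hv₀ using fun q : Fin r => hLs (e.symm (Pi.single q (Ideal.Quotient.mk _ 1)))
  let s₀ : (Fin r → A) →ₗ[A] (s → A) := Fintype.linearCombination A v₀
  have hLs₀ : ∀ c, e (L (s₀ c)) = fun q => Ideal.Quotient.mk _ (c q) := by
    intro c
    funext q
    rw [show s₀ c = ∑ i, c i • v₀ i from Fintype.linearCombination_apply _ _ _, map_sum, map_sum, Finset.sum_apply]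
    simp_rw [map_smul, hv₀, LinearEquiv.apply_symm_apply, Pi.smul_apply, Pi.single_apply, smul_ite, smul_zero]
    simp [Algebra.smul_def]
  have hsurj : Function.Surjective s₀ := by
    rw [← LinearMap.range_eq_top, eq_top_iff]
    refine Submodule.le_of_le_smul_of_le_jacobson_bot Module.Finite.fg_top
      (IsLocalRing.maximalIdeal_le_jacobson ⊥) fun v _ => ?_
    choose c hc using fun q => Ideal.Quotient.mk_surjective (e (L v) q)
    have hz : L (v - s₀ c) = 0 := e.injective (by rw [map_zero, map_sub, map_sub, hLs₀, funext hc, sub_self])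
    rw [← add_sub_cancel (s₀ c) v]
    refine Submodule.add_mem_sup ⟨c, rfl⟩ ?_
    rw [pi_eq_sum_univ (v - s₀ c)]
    exact Submodule.sum_mem _ fun j _ => Submodule.smul_mem_smul (hker _ hz j) Submodule.mem_top
  intro b hb j hj
  obtain ⟨c, hc⟩ := hsurj fun k : s => b k
  have hz : L (fun k : s => b k) = 0 := by
    rw [Fintype.linearCombination_apply, Finset.univ_eq_attach, Finset.sum_attach s fun k => b k • u k]
    exact hb
  have hc0 : ∀ q, c q ∈ Ideal.span {a} := fun q => by
    have := congrFun (hLs₀ c) q
    rw [hc, hz, map_zero] at this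
    exact Ideal.Quotient.eq_zero_iff_mem.1 this.symm
  have := congrFun hc ⟨j, hj⟩
  rw [← this, Fintype.linearCombination_apply, Finset.sum_apply]
  exact Ideal.sum_mem _ fun q _ => Ideal.mul_mem_right _ _ (hc0 q)

/-- A series with no coefficient in degree `< N` in some variable maps into the `N`-th power. -/
theorem map_mem_pow {ι : Type w} [DecidableEq ι] (f : MvPowerSeries ι O →ₐ[O] A) (Q : Ideal A)
    (hQ : ∀ l, f (MvPowerSeries.X l) ∈ Q) (N : ℕ) :
    ∀ (t : Finset ι) (h : MvPowerSeries ι O),
      (∀ n : ι →₀ ℕ, (∀ l ∈ t, n l < N) → MvPowerSeries.coeff n h = 0) → f h ∈ Q ^ N := by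
  intro t
  induction t using Finset.induction_on with
  | empty =>
    intro h hh
    rw [show h = 0 from MvPowerSeries.ext fun n => by simpa using hh n (by simp), map_zero]
    exact zero_mem _
  | insert j t hj ih =>
    intro h hh
    let q : MvPowerSeries ι O := fun n => MvPowerSeries.coeff (n + Finsupp.single j N) h
    have hq : ∀ n, MvPowerSeries.coeff n q = MvPowerSeries.coeff (n + Finsupp.single j N) h := fun _ => rfl
    have hrest : f (h - MvPowerSeries.monomial (Finsupp.single j N) 1 * q) ∈ Q ^ N := by
      refine ih _ fun n hn => ?_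
      rw [map_sub, MvPowerSeries.coeff_monomial_mul, one_mul]
      split_ifs with hle
      · rw [hq, tsub_add_cancel_of_le hle, sub_self]
      · rw [sub_zero]
        refine hh n fun l hl => ?_
        rcases Finset.mem_insert.1 hl with rfl | hl
        · by_contra hN
          exact hle (Finsupp.single_le_iff.2 (not_lt.1 hN))
        · exact hn l hl
    have hmain : f (MvPowerSeries.monomial (Finsupp.single j N) 1 * q) ∈ Q ^ N := by
      rw [map_mul, ← MvPowerSeries.X_pow_eq, map_pow]
      exact Ideal.mul_mem_right _ _ (Ideal.pow_mem_pow (hQ j) N)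
    simpa using add_mem hrest hmain

end Generic

end Groth.Agent.Lib.DPRigid
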