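import Groth.Agent.Lib.DPRigid.Filtration

/-! Newton iteration along a divided power ideal. -/

set_option autoImplicit false
set_option linter.unusedSectionVars false

universe u v w

namespace Groth.Agent.Lib.DPRigid

open W4c1noabschz1 MvPolynomial

variable {O : Type v} [CommRing O] {σ : Type w} [Fintype σ] [DecidableEq σ]
variable {S : Type u} [CommRing S] [Algebra O S] {I : Ideal S} (hI : DividedPowers I)
variable (a : O) (P : Ideal (MvPolynomial σ O))

/-- `a` times the `n`-th piece of the divided power filtration. -/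
noncomputable def K (n : ℕ) : Ideal S := Ideal.span {algebraMap O S a} * dpPow hI n

theorem K_le (n : ℕ) : K hI a n ≤ dpPow hI n := Ideal.mul_le_right

theorem K_le_span (n : ℕ) : K hI a n ≤ Ideal.span {algebraMap O S a} := Ideal.mul_le_left

theorem mul_mem_K {n : ℕ} (hn : 1 ≤ n) {u v : S} (hu : u ∈ K hI a n) (hv : v ∈ dpPow hI n) :
    u * v ∈ K hI a (n + 1) := by
  obtain ⟨t, ht, rfl⟩ := Ideal.mem_span_singleton_mul.1 hu
  exact Ideal.mem_span_singleton_mul.2 ⟨t * v, mul_mem_succ hI hn ht hv, by ring⟩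

theorem mul_mem_K' {n : ℕ} {v : S} (hv : v ∈ dpPow hI n) : algebraMap O S a * v ∈ K hI a n :=
  Ideal.mul_mem_mul (Ideal.mem_span_singleton_self _) hv

theorem aeval_sub_mem {Q : Ideal S} {y z : σ → S} (h : ∀ l, z l - y l ∈ Q) (p : MvPolynomial σ O) :
    aeval z p - aeval y p ∈ Q := by
  rw [← Ideal.Quotient.eq]
  have : (Ideal.Quotient.mkₐ O Q).comp (aeval z) = (Ideal.Quotient.mkₐ O Q).comp (aeval y) :=
    MvPolynomial.algHom_ext fun l => by simpa using Ideal.Quotient.eq.2 (h l)
  exact DFunLike.congr_fun this p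

variable (hP : ∀ g ∈ P, ∀ j, pderiv j g ∈ Ideal.span {C a} ⊔ P)

include hP in
theorem iterate_pderiv_mem {g : MvPolynomial σ O} (hg : g ∈ P) (j : σ) (k : ℕ) :
    (⇑(pderiv j))^[k + 1] g ∈ Ideal.span {C a} ⊔ P := by
  induction k with
  | zero => exact hP g hg j
  | succ k ih =>
    rw [Function.iterate_succ_apply']
    obtain ⟨b, hb, p, hp, hbp⟩ := Submodule.mem_sup.1 ih
    obtain ⟨c, rfl⟩ := Ideal.mem_span_singleton'.1 hb
    rw [← hbp, map_add, pderiv_mul, pderiv_C, mul_zero, add_zero]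
    exact add_mem (Submodule.mem_sup_left (Ideal.mem_span_singleton'.2 ⟨_, rfl⟩)) (hP p hp j)

theorem aeval_mem_span {n : ℕ} {y : σ → S} (hy : ∀ g ∈ P, aeval y g ∈ K hI a n)
    {p : MvPolynomial σ O} (hp : p ∈ Ideal.span {C a} ⊔ P) :
    aeval y p ∈ Ideal.span {algebraMap O S a} := by
  obtain ⟨b, hb, q, hq, rfl⟩ := Submodule.mem_sup.1 hp
  obtain ⟨c, rfl⟩ := Ideal.mem_span_singleton'.1 hb
  rw [map_add, map_mul, aeval_C]
  exact add_mem (Ideal.mem_span_singleton'.2 ⟨_, rfl⟩) (K_le_span hI a n (hy q hq))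

include hP in
/-- First-order expansion at a point where the relations are small. -/
theorem move {n : ℕ} (hn : 1 ≤ n) {y : σ → S} (hy : ∀ g ∈ P, aeval y g ∈ K hI a n)
    {h : σ → S} (hh : ∀ j, h j ∈ dpPow hI n) :
    ∀ g ∈ P, aeval (y + h) g - aeval y g - ∑ j, aeval y (pderiv j g) * h j ∈ K hI a (n + 1) := by
  suffices H : ∀ s : Finset σ, ∀ g ∈ P,
      aeval (fun l => y l + if l ∈ s then h l else 0) g - aeval y g
        - ∑ j ∈ s, aeval y (pderiv j g) * h j ∈ K hI a (n + 1) by
    intro g hg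
    have := H Finset.univ g hg
    simp only [Finset.mem_univ, if_true] at this
    exact this
  intro s
  induction s using Finset.induction_on with
  | empty => intro g hg; simp
  | insert j s hj ih =>
    intro g hg
    set z : σ → S := fun l => y l + if l ∈ s then h l else 0 with hz
    have hzy : ∀ l, z l - y l ∈ dpPow hI n := fun l => by
      simp only [hz, add_sub_cancel_left]
      split
      · exact hh l
      · exact zero_mem _
    have hzP : ∀ q ∈ P, aeval z q ∈ K hI a n := fun q hq => by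
      have h1 : aeval z q - aeval y q - ∑ j ∈ s, aeval y (pderiv j q) * h j ∈ K hI a n :=
        Ideal.mul_mono_right (dpPow_anti hI (Nat.le_succ n)) (ih q hq)
      have h2 : ∑ j ∈ s, aeval y (pderiv j q) * h j ∈ K hI a n :=
        Ideal.sum_mem _ fun l _ =>
          Ideal.mul_mem_mul (aeval_mem_span hI a P hy (hP q hq l)) (hh l)
      have := add_mem (add_mem h1 h2) (hy q hq)
      simpa using this
    have hw : (fun l => y l + if l ∈ insert j s then h l else 0) = Function.update z j (z j + h j) := by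
      funext l
      by_cases hl : l = j
      · subst hl; simp [hz, hj]
      · simp [hz, hl]
    obtain ⟨D, hD2, hD⟩ := taylor hI g z j (dpPow_le hI hn (hh j))
    have hterm : ∀ k, 2 ≤ k → aeval z ((⇑(pderiv j))^[k] g) * hI.dpow k (h j) ∈ K hI a (n + 1) :=
      fun k hk => by
        obtain ⟨k, rfl⟩ := Nat.exists_eq_add_of_le' (show 1 ≤ k by omega)
        exact Ideal.mul_mem_mul (aeval_mem_span hI a P hzP (iterate_pderiv_mem a P hP hg j k))
          ((dpow_mem_succ hI hn (hh j) _).2 hk)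
    have hexp : aeval (Function.update z j (z j + h j)) g
        - aeval z g - aeval z (pderiv j g) * h j ∈ K hI a (n + 1) := by
      have hsum : ∀ E, 2 ≤ E → ∑ k ∈ Finset.range E, aeval z ((⇑(pderiv j))^[k] g) * hI.dpow k (h j)
          - aeval z g - aeval z (pderiv j g) * h j ∈ K hI a (n + 1) := by
        intro E hE
        induction E, hE using Nat.le_induction with
        | base =>
          simp [Finset.sum_range_succ, hI.dpow_zero (dpPow_le hI hn (hh j)),
            hI.dpow_one (dpPow_le hI hn (hh j))]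
        | succ E hE ihE =>
          rw [Finset.sum_range_succ]
          convert add_mem ihE (hterm E hE) using 1
          ring
      rw [hD]
      exact hsum D hD2
    have hcross : aeval z (pderiv j g) * h j - aeval y (pderiv j g) * h j ∈ K hI a (n + 1) := by
      obtain ⟨b, hb, p, hp, hbp⟩ := Submodule.mem_sup.1 (hP g hg j)
      obtain ⟨c, rfl⟩ := Ideal.mem_span_singleton'.1 hb
      rw [← hbp, map_add, map_add, map_mul, map_mul, aeval_C, aeval_C]
      have h1 : algebraMap O S a * ((aeval z c - aeval y c) * h j) ∈ K hI a (n + 1) :=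
        mul_mem_K' hI a (mul_mem_succ hI hn (aeval_sub_mem hzy c) (hh j))
      have h2 : (aeval z p - aeval y p) * h j ∈ K hI a (n + 1) :=
        mul_mem_K hI a hn (sub_mem (hzP p hp) (hy p hp)) (hh j)
      convert add_mem h1 h2 using 1
      ring
    rw [hw, Finset.sum_insert hj]
    convert add_mem (add_mem hexp hcross) (ih g hg) using 1
    ring

variable (G : σ → MvPolynomial σ O) (hG : ∀ j, G j ∈ P)
  (hdG : ∀ i j, pderiv i (G j) - C (if i = j then a else 0) ∈ P)

include hG hdG hP in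
/-- One step of the iteration. -/
theorem step [IsNoetherianRing S] (M : Ideal (MvPolynomial σ O))
    (hcon : ∀ g ∈ P, (∀ j, pderiv j g ∈ P) → ∀ N, g ∈ P ^ 2 ⊔ M ^ N)
    {n : ℕ} (hn : 1 ≤ n) {y : σ → S} (hy : ∀ g ∈ P, aeval y g ∈ K hI a n)
    (hM : M.map (aeval y : MvPolynomial σ O →ₐ[O] S) ≤ Ideal.jacobson ⊥) :
    ∃ y' : σ → S, (∀ j, y' j - y j ∈ dpPow hI n) ∧ ∀ g ∈ P, aeval y' g ∈ K hI a (n + 1) := by
  choose e he hGe using fun j => Ideal.mem_span_singleton_mul.1 (hy (G j) (hG j))
  refine ⟨y + -e, fun j => by simpa using he j, fun g hg => ?_⟩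
  have hdec : ∀ j, ∃ c, pderiv j g - C a * c ∈ P := fun j => by
    obtain ⟨b, hb, p, hp, hbp⟩ := Submodule.mem_sup.1 (hP g hg j)
    obtain ⟨c, rfl⟩ := Ideal.mem_span_singleton'.1 hb
    exact ⟨c, by rw [← hbp]; convert hp using 1; ring⟩
  choose c hc using hdec
  set g' := g - ∑ j, c j * G j with hg'
  have hg'P : g' ∈ P := sub_mem hg (Ideal.sum_mem _ fun j _ => Ideal.mul_mem_left _ _ (hG j))
  have hd' : ∀ i, pderiv i g' ∈ P := by
    intro i
    have h1 : pderiv i g' - (pderiv i g - C a * c i) ∈ P := by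
      have h2 : ∀ j ∈ (Finset.univ : Finset σ), pderiv i (c j * G j) - c j * C (if i = j then a else 0) ∈ P :=
        fun j _ => by
          rw [pderiv_mul]
          convert add_mem (Ideal.mul_mem_left P (pderiv i (c j)) (hG j))
            (Ideal.mul_mem_left P (c j) (hdG i j)) using 1
          ring
      have h3 := neg_mem (Ideal.sum_mem P h2)
      have h4 : ∑ j, c j * C (if i = j then a else 0) = C a * c i := by
        rw [Finset.sum_eq_single i (fun j _ hj => by simp [Ne.symm hj]) (by simp)]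
        rw [if_pos rfl, mul_comm]
      rw [Finset.sum_sub_distrib, h4] at h3
      convert h3 using 1
      rw [hg', map_sub, map_sum]
      ring
    simpa using add_mem h1 (hc i)
  have hP2 : (P ^ 2).map (aeval y : MvPolynomial σ O →ₐ[O] S) ≤ K hI a (n + 1) := by
    rw [Ideal.map_pow, pow_two, Ideal.mul_le]
    intro u hu v hv
    have hle : P.map (aeval y : MvPolynomial σ O →ₐ[O] S) ≤ K hI a n :=
      Ideal.map_le_iff_le_comap.2 hy
    exact mul_mem_K hI a hn (hle hu) (K_le hI a n (hle hv))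
  have hg'y : aeval y g' ∈ K hI a (n + 1) := by
    refine mem_of_forall_mem_sup_pow hM fun N => ?_
    have := Ideal.mem_map_of_mem (aeval y : MvPolynomial σ O →ₐ[O] S) (hcon g' hg'P hd' N)
    rw [Ideal.map_sup, Ideal.map_pow _ M] at this
    exact sup_le_sup_right hP2 _ this
  have hmv := move hI a P hP hn hy (h := -e) (fun j => neg_mem (he j)) g hg
  have hlin : ∑ j, (aeval y (pderiv j g) * (-e) j + aeval y (c j) * aeval y (G j)) ∈ K hI a (n + 1) := by
    refine Ideal.sum_mem _ fun j _ => ?_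
    have h1 := mul_mem_K hI a hn (hy _ (hc j)) (neg_mem (he j))
    convert h1 using 1
    rw [map_sub, map_mul, aeval_C, ← hGe j, Pi.neg_apply]
    ring
  convert add_mem (add_mem hmv hlin) hg'y using 1
  rw [hg', map_sub, map_sum, Finset.sum_add_distrib]
  simp only [map_mul]
  ring

/-- The divided power filtration tends to zero. -/
abbrev DPSmall (𝔇 : Ideal S) : Prop := ∀ N : ℕ, ∃ n : ℕ, dpPow hI n ≤ 𝔇 ^ N

include hG hdG hP in
/-- A point with small relations is congruent to a solution. -/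
theorem exists_root [IsNoetherianRing S] (M : Ideal (MvPolynomial σ O))
    (hcon : ∀ g ∈ P, (∀ j, pderiv j g ∈ P) → ∀ N, g ∈ P ^ 2 ⊔ M ^ N)
    (𝔇 : Ideal S) [IsAdicComplete 𝔇 S] (hsmall : DPSmall hI 𝔇) (y₀ : σ → S)
    (hy₀ : ∀ g ∈ P, aeval y₀ g ∈ K hI a 1)
    (hM : ∀ y : σ → S, (∀ j, y j - y₀ j ∈ I) → M.map (aeval y : MvPolynomial σ O →ₐ[O] S) ≤ Ideal.jacobson ⊥) :
    ∃ z : σ → S, (∀ j, z j - y₀ j ∈ I) ∧ ∀ g ∈ P, aeval z g = 0 := by
  let T : ℕ → Type _ := fun n =>
    {y : σ → S // (∀ j, y j - y₀ j ∈ I) ∧ ∀ g ∈ P, aeval y g ∈ K hI a (n + 1)}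
  have hnext : ∀ n, ∀ y : T n, ∃ y' : T (n + 1), ∀ j, y'.1 j - y.1 j ∈ dpPow hI (n + 1) := by
    rintro n ⟨y, hy0, hy⟩
    obtain ⟨y', h1, h2⟩ := step hI a P hP G hG hdG M hcon (Nat.le_add_left 1 n) hy (hM y hy0)
    refine ⟨⟨y', fun j => ?_, h2⟩, h1⟩
    convert add_mem (dpPow_le hI (Nat.le_add_left 1 n) (h1 j)) (hy0 j) using 1
    ring
  choose next hn' using hnext
  let seq : ∀ n, T n := fun n => Nat.rec ⟨y₀, fun j => by simp, hy₀⟩ (fun n y => next n y) n
  have hseq : ∀ m k, m ≤ k → ∀ j, (seq k).1 j - (seq m).1 j ∈ dpPow hI (m + 1) := by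
    intro m k hmk j
    induction k, hmk using Nat.le_induction with
    | base => simp
    | succ k hmk ih =>
      have h1 : (seq (k + 1)).1 j - (seq k).1 j ∈ dpPow hI (m + 1) :=
        dpPow_anti hI (by omega) (hn' k (seq k) j)
      convert add_mem h1 ih using 1
      ring
  choose ν hν using hsmall
  let μ : ℕ → ℕ := fun N => ∑ i ∈ Finset.range (N + 1), ν i
  have hμ : ∀ {i N : ℕ}, i ≤ N → μ i ≤ μ N := fun h =>
    Finset.sum_le_sum_of_subset (Finset.range_mono (by omega))
  have hμν : ∀ N, dpPow hI (μ N + 1) ≤ 𝔇 ^ N := fun N =>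
    (dpPow_anti hI ((Finset.single_le_sum (fun i _ => Nat.zero_le (ν i))
      (Finset.self_mem_range_succ N)).trans (Nat.le_succ _))).trans (hν N)
  have hlim : ∀ j, ∃ L, ∀ N, (seq (μ N)).1 j - L ∈ 𝔇 ^ N := by
    intro j
    obtain ⟨L, hL⟩ := IsPrecomplete.prec (I := 𝔇) (M := S) inferInstance
      (f := fun N => (seq (μ N)).1 j) (fun {m n} hmn => by
        rw [SModEq.sub_mem, smul_eq_mul, Ideal.mul_top, ← neg_sub, neg_mem_iff]
        exact hμν m (hseq _ _ (hμ hmn) j))
    exact ⟨L, fun N => by simpa [SModEq.sub_mem] using hL N⟩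
  choose z hz using hlim
  have hjac : 𝔇 ≤ Ideal.jacobson ⊥ := IsAdicComplete.le_jacobson_bot 𝔇
  refine ⟨z, fun j => mem_of_forall_mem_sup_pow hjac fun N => ?_, fun g hg => ?_⟩
  · rw [show z j - y₀ j = ((seq (μ N)).1 j - y₀ j) - ((seq (μ N)).1 j - z j) by ring]
    exact Submodule.sub_mem_sup ((seq (μ N)).2.1 j) (hz j N)
  · refine Ideal.mem_bot.1 (mem_of_forall_mem_sup_pow hjac fun N => ?_)
    refine Submodule.mem_sup_right ?_
    have h1 : aeval (seq (μ N)).1 g - aeval z g ∈ 𝔇 ^ N := aeval_sub_mem (fun l => hz l N) g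
    have h2 : aeval (seq (μ N)).1 g ∈ 𝔇 ^ N := hμν N (K_le hI a _ ((seq (μ N)).2.2 g hg))
    simpa using sub_mem h2 h1

include hG hdG hP in
/-- Two solutions congruent modulo the divided power ideal are equal. -/
theorem root_unique (htn : IsDPTopNilpotent hI)
    (ha : ∀ s : S, algebraMap O S a * s = 0 → s = 0) {z z' : σ → S}
    (hz : ∀ g ∈ P, aeval z g = 0) (hz' : ∀ g ∈ P, aeval z' g = 0)
    (hzz : ∀ j, z' j - z j ∈ I) : z' = z := by
  have key : ∀ n j, z' j - z j ∈ dpPow hI (n + 1) := by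
    intro n
    induction n with
    | zero => exact fun j => le_dpPow_one hI (hzz j)
    | succ n ih =>
      intro j
      have hmv := move hI a P hP (Nat.le_add_left 1 n) (y := z) (fun g hg => by simp [hz g hg])
        (h := z' - z) ih (G j) (hG j)
      rw [add_sub_cancel, hz' _ (hG j), hz _ (hG j)] at hmv
      have hd : ∀ i, aeval z (pderiv i (G j)) = algebraMap O S (if i = j then a else 0) := fun i => by
        rw [← sub_eq_zero, ← aeval_C (f := z), ← map_sub]
        exact hz _ (hdG i j)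
      rw [Finset.sum_eq_single j (fun i _ hi => by simp [hd, hi]) (by simp), hd, if_pos rfl] at hmv
      simp only [sub_self, zero_sub, neg_mem_iff] at hmv
      obtain ⟨t, ht, hts⟩ := Ideal.mem_span_singleton_mul.1 hmv
      have := ha (t - (z' - z) j) (by rw [mul_sub, hts, sub_self])
      rw [sub_eq_zero] at this
      rw [← Pi.sub_apply, ← this]
      exact ht
  funext j
  rw [← sub_eq_zero, ← Submodule.mem_bot S, ← htn, Submodule.mem_iInf]
  intro m
  exact dpPow_anti hI (Nat.le_succ m) (key m j)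

end Groth.Agent.Lib.DPRigid
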