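import Groth.Agent.Lib.DPRigid.Gen
import Groth.Agent.Lib.DPRigid.Conormal
import Mathlib.RingTheory.DiscreteValuationRing.Basic

/-! A small polynomial presentation of a finite flat quotient of a power series ring
whose differentials are free over a quotient by a scalar. -/

set_option autoImplicit false
set_option linter.unusedSectionVars false

universe u v w

namespace Groth.Agent.Lib.DPRigid

variable {O : Type u} [CommRing O] [IsLocalRing O] [IsNoetherianRing O] [IsDomain O]
variable {A : Type v} [CommRing A] [Algebra O A] [Module.Finite O A] [Module.Flat O A] [IsLocalRing A]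

theorem exists_present {m : ℕ} (f : Fin m → MvPowerSeries (Fin m) O)
    (φ : MvPowerSeries (Fin m) O →ₐ[O] A) (hφ : Function.Surjective φ)
    (hker : RingHom.ker φ = Ideal.span (Set.range f)) (a : O) (ha : a ≠ 0) (r : ℕ)
    (e : KaehlerDifferential O A ≃ₗ[A] (Fin r → A ⧸ Ideal.span {algebraMap O A a})) :
    ∃ (s : Finset (Fin m)) (π : MvPolynomial s O →ₐ[O] A) (G : s → MvPolynomial s O),
      Function.Surjective π ∧
      (∀ g ∈ RingHom.ker π, ∀ j, MvPolynomial.pderiv j g ∈ Ideal.span {MvPolynomial.C a} ⊔ RingHom.ker π) ∧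
      (∀ j, G j ∈ RingHom.ker π) ∧
      (∀ i j, MvPolynomial.pderiv i (G j) - MvPolynomial.C (if i = j then a else 0) ∈ RingHom.ker π) ∧
      ∀ g ∈ RingHom.ker π, (∀ j, MvPolynomial.pderiv j g ∈ RingHom.ker π) →
        ∀ N, g ∈ RingHom.ker π ^ 2 ⊔ (IsLocalRing.maximalIdeal A).comap π ^ N := by
  classical
  set x : Fin m → A := fun l => φ (MvPowerSeries.X l) with hx
  set α : A := algebraMap O A a with hα
  obtain ⟨s, hs, hind⟩ := exists_minimal_gen α (KaehlerDifferential O A) e _ (span_D_eq_top φ hφ)
  have hkill : ∀ w : KaehlerDifferential O A, α • w = 0 := fun w => e.injective (by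
    rw [map_smul, map_zero]
    funext q
    obtain ⟨y, hy⟩ := Ideal.Quotient.mk_surjective (e w q)
    rw [Pi.smul_apply, Pi.zero_apply, ← hy, Algebra.smul_def, Ideal.Quotient.algebraMap_eq, ← map_mul,
      Ideal.Quotient.eq_zero_iff_mem]
    exact Ideal.mul_mem_right _ _ (Ideal.mem_span_singleton_self _))
  have hs' := adjoin_eq_top_of_span_D φ hφ (s : Set (Fin m)) hs
  let π : MvPolynomial s O →ₐ[O] A := MvPolynomial.aeval fun j => x j
  have hπ : Function.Surjective π := by
    rw [← AlgHom.range_eq_top, ← Algebra.adjoin_range_eq_range_aeval, ← hs']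
    congr 1
    ext
    simp [hx]
  choose G hG hdG using fun j => exists_grad π hπ (fun i => MvPolynomial.pderiv i) MvPolynomial.X
    (fun i j => by simp [MvPolynomial.pderiv_X, Pi.single_apply, eq_comm]) α hkill j
  have hreg : IsSMulRegular A (a ^ m) :=
    Module.Flat.isSMulRegular_of_nonZeroDivisors (mem_nonZeroDivisors_of_ne_zero (pow_ne_zero m ha))
  have hαm : ∀ y : A, α ^ m * y = 0 → y = 0 := fun y hy => hreg (by
    change a ^ m • y = a ^ m • (0 : A)
    rw [Algebra.smul_def, map_pow, smul_zero]
    exact hy)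
  refine ⟨s, π, G, hπ, fun g hg j => ?_, hG, fun i j => ?_, fun g hg hdg N => conormal φ hφ hker
    (jacobian_inj φ hφ hker α hkill hαm) (map_X_mem φ hφ) s π (fun j => by simp [π, hx]) hπ g hg hdg N⟩
  · have h1 : ∑ i : s, π (MvPolynomial.pderiv i g) • KaehlerDifferential.D O A (x i) = 0 := by
      rw [← D_aeval (fun i : s => x i) g]
      change KaehlerDifferential.D O A (π g) = 0
      rw [show π g = 0 from hg, map_zero]
    let b : Fin m → A := fun l => if hl : l ∈ s then π (MvPolynomial.pderiv ⟨l, hl⟩ g) else 0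
    have h2 := hind b (by
      rw [← Finset.sum_coe_sort s, ← h1]
      exact Finset.sum_congr rfl fun i _ => by simp [b, hx]) j j.2
    simp only [b, j.2, dif_pos, Subtype.coe_eta] at h2
    obtain ⟨t, ht⟩ := Ideal.mem_span_singleton'.1 h2
    obtain ⟨q, rfl⟩ := hπ t
    rw [← add_sub_cancel (MvPolynomial.C a * q) (MvPolynomial.pderiv j g)]
    refine Submodule.add_mem_sup (Ideal.mul_mem_right _ _ (Ideal.mem_span_singleton_self _)) ?_
    rw [RingHom.mem_ker, map_sub, map_mul, show π (MvPolynomial.C a) = α from π.commutes a, ← ht, mul_comm, sub_self]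
  · rw [RingHom.mem_ker, map_sub, show π (MvPolynomial.C (if i = j then a else 0)) = _ from π.commutes _,
      hdG j i]
    split_ifs <;> simp [α]

end Groth.Agent.Lib.DPRigid
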